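import Cfsg.Agent.Th34.Three.W0
import Cfsg.Agent.Th34.Three.W1

/-!
One level of the chain.
-/

set_option autoImplicit false
set_option maxRecDepth 100000

namespace CfsgLib.Th34.Three

open CfsgLib.ThLB32

/-- the orbit -/
def pts1 : List (ℕ × ℕ) :=
  [(443482115849278571672720879388427050522789930415213997608121612411859370882, 470183602687254614672701554000860837745907001568139688569337385508490340), (180106466384193921767316537677726340077861309264245740813412197696313512017, 943688032930020672344058012901592696151832166125970834298183879402378),
   (29664922511525940699737214844199830490137128562302338547698874596738008450, 251258098721244342068114278509260798422809675212320238302548776077378252889)]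

theorem step1 : stepOK [w0, w1] [m0, m1] [0] pts1
    [[0, 1, 2], [1, 2, 0]]
    [(0, 1), (1, 1)] = true := by
  decide +kernel

end CfsgLib.Th34.Three
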