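import Cfsg.Agent.Th34.Three.W0
import Cfsg.Agent.Th34.Three.W1
import Cfsg.Agent.Th34.Three.W2

/-!
One level of the chain.
-/

set_option autoImplicit false
set_option maxRecDepth 100000

namespace CfsgLib.Th34.Three

open CfsgLib.ThLB32

/-- the orbit -/
def pts2 : List (ℕ × ℕ) :=
  [(141817304830720152623970713140071743664455269520396728367243834869382382080, 303315926874183231018922154663362497618459085450557680226700716434754676844), (113630385974752099227651684863728569144384238915854298698187776381258039296, 337473292780548197024683167811749104751781388387150021793280583812673299850),
   (28940871940392142053507362364892477288332031231460387649412447274474684416, 310292621957309184328635035289583865063939803361720905052005390790751689655)]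

theorem step2 : stepOK [w0, w1, w2] [m0, m1, m2] [0, 1] pts2
    [[0, 1, 2], [0, 1, 2], [1, 2, 0]]
    [(0, 2), (1, 2)] = true := by
  decide +kernel

end CfsgLib.Th34.Three
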