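import Cfsg.Agent.Th34.Three.W0
import Cfsg.Agent.Th34.Three.W1
import Cfsg.Agent.Th34.Three.W2
import Cfsg.Agent.Th34.Three.W3
import Cfsg.Agent.Th34.Three.W4
import Cfsg.Agent.Th34.Three.W5
import Cfsg.Agent.Th34.Three.W6

/-!
One level of the chain.
-/

set_option autoImplicit false
set_option maxRecDepth 100000

namespace CfsgLib.Th34.Three

open CfsgLib.ThLB32

/-- the orbit -/
def pts4 : List (ℕ × ℕ) :=
  [(113521784174992801918521770375630044254161987297665856855442267596184704081, 280253174941119837395024113278014468805452718974822556740580565559019744174), (280253174941119837395024113278014468804322048998483651021661131375158056017, 113521784174992801918521770375630044255292657274004762574361701780046392238),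
   (44181471296082689435486721205425233, 1174851447634988408354920905067113390)]

theorem step4 : stepOK [w0, w1, w2, w3, w4, w5, w6] [m0, m1, m2, m3, m4, m5, m6] [0, 1, 2, 3, 4, 5] pts4
    [[0, 1, 2], [0, 1, 2], [0, 1, 2], [0, 1, 2], [0, 1, 2], [0, 1, 2], [1, 2, 0]]
    [(0, 6), (1, 6)] = true := by
  decide +kernel

end CfsgLib.Th34.Three
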