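import Cfsg.Agent.Th34.Three.Words

/-!
One level of the chain.
-/

set_option autoImplicit false
set_option maxRecDepth 100000

namespace CfsgLib.Th34.Three

open CfsgLib.ThLB32

/-- the orbit -/
def pts5 : List (ℕ × ℕ) :=
  [(272565734803771763700934289023607010421044085513936618244654315420306767872, 65605844080247581255368179620355057405459447347097559922905179449301401600), (120146786705948270804142692344075883730623927633695981155809328030627790848, 60043926115094919128637533383848612054878294127651074978077578959899328512),
   (1063084645112618777898764496446090477936149298983621754349283841633550336, 443737967959926635871227118344346041948011059683528189842233120243387990016)]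

theorem step5 : stepWOK [w0, w1, w2, w3, w4, w5, w6, w7] [0, 1, 2, 3, 4, 5, 6] pts5
    [[0, 1, 2], [0, 1, 2], [0, 1, 2], [0, 1, 2], [0, 1, 2], [0, 1, 2], [0, 1, 2], [1, 2, 0]]
    [(0, 7), (1, 7)] = true := by
  decide +kernel

end CfsgLib.Th34.Three
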