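import Cfsg.Agent.Th34.Three.Words

/-!
One level of the chain.
-/

set_option autoImplicit false
set_option maxRecDepth 100000

namespace CfsgLib.Th34.Three

open CfsgLib.ThLB32

/-- the orbit -/
def pts6 : List (ℕ × ℕ) :=
  [(272565734803771763700934289023607010421049461095478063295392845937070047232, 65605844080247581255368179620355057405564266842405123934778182628620238848), (272565734803771763700934289023607010421044085513936618244654296727535222784, 65605844080247581255368179620355057405459447347097559922328718284611911680),
   (272565734803771763700934289023607010421148905009244182257103761071543549952, 65605844080247581255368179620355057405464822928639004973067267494146736128)]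

theorem step6 : stepWOK [w0, w1, w2, w3, w4, w5, w6, w7, w8] [0, 1, 2, 3, 4, 5, 6, 7] pts6
    [[0, 1, 2], [0, 1, 2], [0, 1, 2], [0, 1, 2], [0, 1, 2], [0, 1, 2], [0, 1, 2], [0, 1, 2], [1, 2, 0]]
    [(0, 8), (1, 8)] = true := by
  decide +kernel

end CfsgLib.Th34.Three
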