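import Cfsg.Agent.Th34.Three.Step0
import Cfsg.Agent.Th34.Three.Step1
import Cfsg.Agent.Th34.Three.Step2
import Cfsg.Agent.Th34.Three.Step3
import Cfsg.Agent.Th34.Three.Step4
import Cfsg.Agent.Th34.Three.Step5
import Cfsg.Agent.Th34.Three.Step6

/-!
A chain of orbits showing that three to the tenth divides the order of the presented group.
-/

set_option autoImplicit false
set_option maxRecDepth 100000

namespace CfsgLib.Th34.Three

open CfsgLib.ThLB32

theorem matsOK_cons {k : List ℕ} {m : List (ℕ × ℕ)} {ks : List (List ℕ)} {ms : List (List (ℕ × ℕ))}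
    (h1 : matsOK [k] [m] = true) (h2 : matsOK ks ms = true) :
    matsOK (k :: ks) (m :: ms) = true := by
  simp only [matsOK, Bool.and_true] at h1 ⊢
  rw [h1, h2]; rfl

theorem dvd0 : 3 ∣ Nat.card (gK [w0]) :=
  (show 3 = pts0.length * 1 from rfl) ▸
    dvd_step (matsOK_cons ok0 (by rfl)) step0 (one_dvd _)

theorem dvd1 : 9 ∣ Nat.card (gK [w0, w1]) :=
  (show 9 = pts1.length * 3 from rfl) ▸
    dvd_step (matsOK_cons ok0 (matsOK_cons ok1 (by rfl))) step1 dvd0

theorem dvd2 : 27 ∣ Nat.card (gK [w0, w1, w2]) :=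
  (show 27 = pts2.length * 9 from rfl) ▸
    dvd_step (matsOK_cons ok0 (matsOK_cons ok1 (matsOK_cons ok2 (by rfl)))) step2 dvd1

theorem dvd3 : 2187 ∣ Nat.card (gK [w0, w1, w2, w3, w4, w5]) :=
  (show 2187 = pts3.length * 27 from rfl) ▸
    dvd_step (matsOK_cons ok0 (matsOK_cons ok1 (matsOK_cons ok2 (matsOK_cons ok3 (matsOK_cons ok4 (matsOK_cons ok5 (by rfl))))))) step3 dvd2

theorem dvd4 : 6561 ∣ Nat.card (gK [w0, w1, w2, w3, w4, w5, w6]) :=
  (show 6561 = pts4.length * 2187 from rfl) ▸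
    dvd_step (matsOK_cons ok0 (matsOK_cons ok1 (matsOK_cons ok2 (matsOK_cons ok3 (matsOK_cons ok4 (matsOK_cons ok5 (matsOK_cons ok6 (by rfl)))))))) step4 dvd3

theorem dvd5 : 19683 ∣ Nat.card (gK [w0, w1, w2, w3, w4, w5, w6, w7]) :=
  (show 19683 = pts5.length * 6561 from rfl) ▸
    dvd_stepW step5 dvd4

theorem dvd6 : 59049 ∣ Nat.card (gK [w0, w1, w2, w3, w4, w5, w6, w7, w8]) :=
  (show 59049 = pts6.length * 19683 from rfl) ▸
    dvd_stepW step6 dvd5

theorem dvd_three : 3 ^ 10 ∣ Nat.card Cfsg.Spor.Th :=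
  dvd_top (show 3 ^ 10 ∣ Nat.card (gK [w0, w1, w2, w3, w4, w5, w6, w7, w8]) from dvd6)

end CfsgLib.Th34.Three
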