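import Cfsg.Agent.ThLB32.Checker

/-!
A variant of one level of an orbit chain which follows the vectors letter by letter, for words too
long to be multiplied out.
-/

set_option autoImplicit false
set_option maxRecDepth 100000

namespace CfsgLib.Th34.Three

open Matrix CfsgLib.ThRep32 CfsgLib.ThLB32

/-- the images of the listed vectors under the words are the listed ones -/
def imgWOK (pts : List (ℕ × ℕ)) : List (List ℕ) → List (List ℕ) → Bool
  | [], [] => true
  | w :: ks, r :: rs =>
    (w.all fun x => Nat.blt x 11) && Nat.beq r.length pts.length &&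
      ((pts.zip r).all fun q => Nat.blt q.2 pts.length &&
        eqP (vrun pkL w q.1) (pts.getD q.2 (0, 0))) && imgWOK pts ks rs
  | _, _ => false

/-- one level of a chain, checked letter by letter -/
def stepWOK (ks : List (List ℕ)) (qs : List ℕ) (pts : List (ℕ × ℕ))
    (img : List (List ℕ)) (par : List (ℕ × ℕ)) : Bool :=
  Nat.blt 0 pts.length && pts.all smallB && distinctB pts && imgWOK pts ks img &&
    parOK img pts.length par 1 && fixOK ks img qs && Nat.beq ks.length img.length

theorem imgW_spec : ∀ {ks : List (List ℕ)} {pts : List (ℕ × ℕ)} {img : List (List ℕ)},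
    imgWOK pts ks img = true →
    ∀ k < ks.length, ∀ i < pts.length, (img.getD k []).getD i 0 < pts.length ∧
      mv (val (ks.getD k [])) (vecOf (pts.getD i (0, 0))) =
        vecOf (pts.getD ((img.getD k []).getD i 0) (0, 0))
  | [], _, _, _, k, hk => absurd hk (Nat.not_lt_zero k)
  | _ :: _, _, [], h, _, _ => by simp [imgWOK] at h
  | w :: ks, pts, r :: rs, hi, k, hk => by
    simp only [imgWOK, Bool.and_eq_true, Nat.beq_eq] at hi
    obtain ⟨⟨⟨hw, hlen⟩, hall⟩, hi'⟩ := hi
    cases k with
    | succ k =>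
      simpa using imgW_spec hi' k (Nat.lt_of_succ_lt_succ hk)
    | zero =>
      intro i hip
      have hir : i < r.length := by omega
      have hmem : (pts.getD i (0, 0), r.getD i 0) ∈ pts.zip r := by
        rw [List.mem_iff_getElem]
        exact ⟨i, by simp [hip, hir], by
          rw [List.getElem_zip, List.getD_eq_getElem _ _ hip, List.getD_eq_getElem _ _ hir]⟩
      have := List.all_eq_true.mp hall _ hmem
      simp only [Bool.and_eq_true, Nat.blt, Nat.ble_eq, eqP_iff] at this
      obtain ⟨hlt, he⟩ := this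
      simp only [List.getD_cons_zero]
      refine ⟨hlt, ?_⟩
      rw [← he, mv, val]
      exact (vecOf_vrun w _ hw).symm

theorem dvd_stepW {ks : List (List ℕ)} {qs : List ℕ}
    {pts : List (ℕ × ℕ)} {img : List (List ℕ)} {par : List (ℕ × ℕ)}
    (h : stepWOK ks qs pts img par = true) {d : ℕ}
    (hd : d ∣ Nat.card (gK (qs.map fun j => ks.getD j []))) :
    pts.length * d ∣ Nat.card (gK ks) := by
  simp only [stepWOK, Bool.and_eq_true, Nat.blt, Nat.ble_eq, Nat.beq_eq] at h
  obtain ⟨⟨⟨⟨⟨⟨hpos, hsmall⟩, hdist⟩, himg⟩, hpar⟩, hfix⟩, hkl⟩ := h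
  have spec := imgW_spec himg
  set v := vecOf (pts.getD 0 (0, 0)) with hv
  let S : Set (Fin 248 → ZMod 3) := {u | ∃ i < pts.length, vecOf (pts.getD i (0, 0)) = u}
  have hSfin : S.Finite :=
    (Set.finite_range fun i : Fin pts.length => vecOf (pts.getD i (0, 0))).subset
      (fun u ⟨i, hi, e⟩ => ⟨⟨i, hi⟩, e⟩)
  have hclosed : ∀ g ∈ gK ks, ∀ u ∈ S, mv g u ∈ S := by
    intro g hg
    induction hg using Subgroup.closure_induction with
    | mem g hg =>
      obtain ⟨w, hw, rfl⟩ := hg
      obtain ⟨k, hk, rfl⟩ := List.getElem_of_mem hw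
      rintro u ⟨i, hi, rfl⟩
      obtain ⟨hlt, e⟩ := spec k hk i hi
      rw [List.getD_eq_getElem _ _ hk] at e
      exact ⟨_, hlt, e.symm⟩
    | one => exact fun u hu => by rwa [mv_one]
    | mul g g' _ _ ig ig' => exact fun u hu => by rw [mv_mul]; exact ig' _ (ig _ hu)
    | inv g _ ig =>
      intro u hu
      have hinj : Set.InjOn (mv g) S := fun a _ b _ e => by
        have := congrArg (mv g⁻¹) e
        rwa [← mv_mul, ← mv_mul, mul_inv_cancel, mv_one, mv_one] at this
      have him : mv g '' S = S := Set.eq_of_subset_of_ncard_le (Set.image_subset_iff.mpr ig)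
        (by rw [Set.ncard_image_of_injOn hinj]) hSfin
      obtain ⟨t, ht, e⟩ := him.symm ▸ hu
      rw [← e, ← mv_mul, mul_inv_cancel, mv_one]
      exact ht
  let act : MulAction (gK ks) (Fin 248 → ZMod 3) :=
    { smul := fun g u => mv (g : Cfsg.Spor.Th)⁻¹ u
      one_smul := fun u => by
        show mv ((1 : gK ks) : Cfsg.Spor.Th)⁻¹ u = u
        rw [OneMemClass.coe_one, inv_one, mv_one]
      mul_smul := fun g g' u => by
        show mv ((g * g' : gK ks) : Cfsg.Spor.Th)⁻¹ u =
          mv (g : Cfsg.Spor.Th)⁻¹ (mv (g' : Cfsg.Spor.Th)⁻¹ u)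
        rw [← mv_mul, ← _root_.mul_inv_rev]
        rfl }
  letI := act
  have hsmul : ∀ (g : gK ks) (u : Fin 248 → ZMod 3), g • u = mv (g : Cfsg.Spor.Th)⁻¹ u :=
    fun _ _ => rfl
  have horb : MulAction.orbit (gK ks) v = S := by
    refine Set.Subset.antisymm ?_ ?_
    · rintro u ⟨g, rfl⟩
      exact hclosed _ (inv_mem g.2) _ ⟨0, hpos, rfl⟩
    · rintro u ⟨i, hi, rfl⟩
      induction i using Nat.strong_induction_on with
      | _ i ih =>
        rcases Nat.eq_zero_or_pos i with rfl | h0
        · exact MulAction.mem_orbit_self _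
        · obtain ⟨p, k, hp, hk, e⟩ := par_spec hpar i h0 hi
          obtain ⟨g, hg⟩ := ih p hp (lt_trans hp hi)
          obtain ⟨-, e'⟩ := spec k (hkl ▸ hk) p (lt_trans hp hi)
          rw [e] at e'
          have hk' : ks.getD k [] ∈ ks := by
            rw [List.getD_eq_getElem _ _ (hkl ▸ hk)]
            exact List.getElem_mem _
          refine ⟨⟨(val (ks.getD k []))⁻¹, inv_mem (val_mem hk')⟩ * g, ?_⟩
          show _ • v = _
          rw [mul_smul, show g • v = _ from hg, hsmul]
          show mv ((val (ks.getD k []))⁻¹)⁻¹ _ = _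
          rw [inv_inv, e']
  have hncard : S.ncard = pts.length := by
    have hS : S = Set.range fun i : Fin pts.length => vecOf (pts.getD i (0, 0)) := by
      ext u
      exact ⟨fun ⟨i, hi, e⟩ => ⟨⟨i, hi⟩, e⟩, fun ⟨i, e⟩ => ⟨i, i.isLt, e⟩⟩
    rw [hS, ← Nat.card_coe_set_eq, Nat.card_range_of_injective ?_, Nat.card_fin]
    intro a b e
    have hs : ∀ c : Fin pts.length, goodB (pts.getD c (0, 0)) = true ∧
        (pts.getD c (0, 0)).1 < 2 ^ 248 ∧ (pts.getD c (0, 0)).2 < 2 ^ 248 := fun c => by
      have := List.all_eq_true.mp hsmall _ (List.getElem_mem c.isLt)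
      rw [List.getD_eq_getElem _ _ c.isLt]
      simpa [smallB, Nat.blt, Nat.ble_eq, and_assoc] using this
    have := vecOf_inj (hs a).1 (hs b).1 (hs a).2 (hs b).2 e
    rw [List.getD_eq_getElem _ _ a.isLt, List.getD_eq_getElem _ _ b.isLt] at this
    exact Fin.ext ((distinct_spec hdist).getElem_inj_iff.mp this)
  have hidx := MulAction.index_stabilizer (gK ks) v
  rw [horb, hncard] at hidx
  have hle : gK (qs.map fun j => ks.getD j []) ≤
      (MulAction.stabilizer (gK ks) v).map (gK ks).subtype := by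
    refine (Subgroup.closure_le _).mpr ?_
    rintro _ ⟨w, hw, rfl⟩
    obtain ⟨j, hj, rfl⟩ := List.mem_map.mp hw
    have hj' := List.all_eq_true.mp hfix j hj
    simp only [Bool.and_eq_true, Nat.blt, Nat.ble_eq, Nat.beq_eq] at hj'
    obtain ⟨⟨hj1, -⟩, hj0⟩ := hj'
    have hk' : ks.getD j [] ∈ ks := by
      rw [List.getD_eq_getElem _ _ hj1]
      exact List.getElem_mem _
    refine ⟨⟨_, val_mem hk'⟩, ?_, rfl⟩
    obtain ⟨-, e'⟩ := spec j hj1 0 hpos
    rw [hj0] at e'
    show _ • v = v
    rw [hsmul]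
    conv_lhs => rw [hv, ← e']
    rw [← mv_mul, Subgroup.coe_mk, mul_inv_cancel, mv_one]
  have hcard := Subgroup.card_mul_index (MulAction.stabilizer (gK ks) v)
  rw [hidx] at hcard
  rw [← hcard, mul_comm (Nat.card _) pts.length]
  refine Nat.mul_dvd_mul_left _ (hd.trans ((Subgroup.card_dvd_of_le hle).trans ?_))
  rw [Subgroup.card_map_of_injective Subtype.coe_injective]

end CfsgLib.Th34.Three
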