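import Cfsg.Agent.Th34.Three.W0

/-!
One level of the chain.
-/

set_option autoImplicit false
set_option maxRecDepth 100000

namespace CfsgLib.Th34.Three

open CfsgLib.ThLB32

/-- the orbit -/
def pts0 : List (ℕ × ℕ) :=
  [(59137049734033064279123275855410738109436862449299091104817560591784088626, 123724701925449009925596963630372449963014592245638971629667237851937474568), (11028236672303590207724486252488347857805183674620891451372462450431496453, 116170637877758593470108482545949294864899832545318027292572951054632772648),
   (205398044497856335837059340013634114550878577051719661653767790820302850257, 245923915512864036641626248948219909652485462877317250012541425120352313348)]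

theorem step0 : stepOK [w0] [m0] [] pts0
    [[1, 2, 0]]
    [(0, 0), (1, 0)] = true := by
  decide +kernel

end CfsgLib.Th34.Three
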