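import Cfsg.Agent.Th34.Three.Checker

/-!
The words of the generators of the chain.
-/

set_option autoImplicit false
set_option maxRecDepth 100000

namespace CfsgLib.Th34.Three

open CfsgLib.ThLB32

/-- generator 0 -/
def w0 : List ℕ :=
  [7]

/-- generator 1 -/
def w1 : List ℕ :=
  [0, 1]

/-- generator 2 -/
def w2 : List ℕ :=
  [3, 4]

/-- generator 3 -/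
def w3 : List ℕ :=
  [3, 9, 3, 10]

/-- generator 4 -/
def w4 : List ℕ :=
  [5, 4, 3, 8, 5, 4, 5]

/-- generator 5 -/
def w5 : List ℕ :=
  [0, 10, 3, 9, 1, 10, 3, 9, 3, 9, 3, 10, 10, 3, 9, 1, 10, 3, 9, 0]

/-- generator 6 -/
def w6 : List ℕ :=
  [0, 10, 3, 9, 1, 10, 3, 9]

/-- generator 7 -/
def w7 : List ℕ :=
  [0, 3, 0, 5, 10, 1, 0, 1, 9, 6, 3, 0, 5, 10, 1, 0, 1, 9, 6, 3, 0, 5, 10, 1, 0, 1, 9, 6, 3, 0, 5, 10, 1, 0, 1, 9, 6, 3, 5, 10, 1, 0, 1, 9, 6, 0, 9, 3, 4, 2, 3, 9, 6, 0, 5, 10, 1, 0, 1, 9, 6, 3, 5, 10, 1, 0, 1, 9, 6, 0, 3, 5, 10, 1, 0, 1, 9, 6, 0, 3, 5, 10, 1, 0, 1, 9, 6, 0, 3, 5, 10, 1, 0, 1, 9, 6, 0, 3, 0, 3, 0, 5, 10, 1, 0, 1, 9, 6, 3, 0, 5, 10, 1, 0, 1, 9, 6, 3, 0, 5, 10, 1, 0, 1, 9, 6, 3,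 0, 5, 10, 1, 0, 1, 9, 6, 3, 5, 10, 1, 0, 1, 9, 6, 0, 5, 10, 3, 2, 4, 3, 10, 0, 5, 10, 1, 0, 1, 9, 6, 3, 5, 10, 1, 0, 1, 9, 6, 0, 3, 5, 10, 1, 0, 1, 9, 6, 0, 3, 5, 10, 1, 0, 1, 9, 6, 0, 3, 5, 10, 1, 0, 1, 9, 6, 0, 3]

/-- generator 8 -/
def w8 : List ℕ :=
  [0, 3, 10, 4, 3, 2, 1, 0, 1, 2, 3, 4, 9, 3, 10, 4, 3, 2, 1, 0, 1, 2, 3, 4, 9, 3, 10, 4, 3, 2, 1, 0, 1, 2, 3, 4, 9, 3, 0, 10, 4, 3, 2, 1, 0, 1, 2, 3, 4, 9, 0, 6, 4, 3, 10, 6, 6, 0, 10, 4, 3, 2, 1, 0, 1, 2, 3, 4, 9, 0, 3, 10, 4, 3, 2, 1, 0, 1, 2, 3, 4, 9, 3, 10, 4, 3, 2, 1, 0, 1, 2, 3, 4, 9, 3, 10, 4, 3, 2, 1, 0, 1, 2, 3, 4, 9, 3, 0, 3, 10, 4, 3, 2, 1, 0, 1, 2, 3, 4, 9, 3, 10, 4, 3, 2, 1, 0, 1, 2, 3, 4, 9, 3, 10, 4, 3, 2, 1, 0, 1, 2, 3, 4, 9, 3, 0,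 10, 4, 3, 2, 1, 0, 1, 2, 3, 4, 9, 0, 5, 5, 9, 3, 4, 5, 0, 10, 4, 3, 2, 1, 0, 1, 2, 3, 4, 9, 0, 3, 10, 4, 3, 2, 1, 0, 1, 2, 3, 4, 9, 3, 10, 4, 3, 2, 1, 0, 1, 2, 3, 4, 9, 3, 10, 4, 3, 2, 1, 0, 1, 2, 3, 4, 9, 3]


end CfsgLib.Th34.Three
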